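import Mathlib.RingTheory.Kaehler.Basic
import Mathlib.RingTheory.TensorProduct.Maps
import Mathlib.LinearAlgebra.LinearIndependent.Lemmas

set_option autoImplicit false

/-! Transfer of linear independence of `1 ⊗ d f_i` along a surjection `R → R₁` whose kernel is killed
by `x ↦ 1 ⊗ dx`, and along an isomorphism of the coefficient field. -/

namespace Groth.Agent.Lib.Helper97.PPolyReg

open TensorProduct KaehlerDifferential

universe u v w

section SL

variable {R : Type*} [CommRing R] {K K' : Type*} [CommRing K] [CommRing K'] [Algebra R K]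
  [Algebra R K'] {M : Type*} [AddCommGroup M] [Module R M] {ι : Type*}

theorem linearIndependent_one_tmul_of_algEquiv (σ : K ≃ₐ[R] K') (v : ι → M)
    (h : LinearIndependent K (fun i => (1 : K) ⊗ₜ[R] v i)) :
    LinearIndependent K' (fun i => (1 : K') ⊗ₜ[R] v i) := by
  classical
  let e : K ⊗[R] M ≃ₗ[R] K' ⊗[R] M := TensorProduct.congr σ.toLinearEquiv (LinearEquiv.refl R M)
  rw [linearIndependent_iff'] at h ⊢
  intro s g hg i hi
  have h1 : e (∑ i ∈ s, σ.symm (g i) • ((1 : K) ⊗ₜ[R] v i)) = 0 := by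
    rw [map_sum, ← hg]
    refine Finset.sum_congr rfl fun j _ => ?_
    rw [TensorProduct.smul_tmul', TensorProduct.smul_tmul', smul_eq_mul, smul_eq_mul, mul_one,
      mul_one]
    simp [e]
  have h2 := h s (fun i => σ.symm (g i)) (e.injective (h1.trans (map_zero e).symm)) i hi
  simpa using h2

theorem linearIndependent_one_tmul_iff_of_algEquiv (σ : K ≃ₐ[R] K') (v : ι → M) :
    LinearIndependent K (fun i => (1 : K) ⊗ₜ[R] v i) ↔
      LinearIndependent K' (fun i => (1 : K') ⊗ₜ[R] v i) :=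
  ⟨linearIndependent_one_tmul_of_algEquiv σ v, linearIndependent_one_tmul_of_algEquiv σ.symm v⟩

end SL

section Sq

variable {R : Type*} [CommRing R] {L : Type*} [CommRing L] [Algebra R L]

theorem one_tmul_D_eq_zero_of_mem_sq (I : Ideal R) (hI : ∀ a ∈ I, algebraMap R L a = 0)
    (x : R) (hx : x ∈ I ^ 2) : (1 : L) ⊗ₜ[R] D ℤ R x = 0 := by
  rw [pow_two] at hx
  refine Submodule.mul_induction_on hx ?_ ?_
  · intro a ha b hb
    rw [Derivation.leibniz, TensorProduct.tmul_add, ← TensorProduct.smul_tmul,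
      ← TensorProduct.smul_tmul, Algebra.smul_def, Algebra.smul_def, hI a ha, hI b hb]
    simp
  · intro a b ha hb
    rw [map_add, TensorProduct.tmul_add, ha, hb, add_zero]

end Sq

section Quot

variable {R : Type u} {R₁ : Type v} {L : Type w} [CommRing R] [CommRing R₁] [CommRing L]
  [Algebra R R₁] [Algebra R L] [Algebra R₁ L] [IsScalarTower R R₁ L]

/-- the forward map `L ⊗_R Ω_R → L ⊗_{R₁} Ω_{R₁}` -/
noncomputable def fwd : L ⊗[R] Ω[R⁄ℤ] →ₗ[L] L ⊗[R₁] Ω[R₁⁄ℤ] :=
  LinearMap.liftBaseChange L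
    (((TensorProduct.mk R₁ L Ω[R₁⁄ℤ] 1).restrictScalars R).comp (KaehlerDifferential.map ℤ ℤ R R₁))

theorem fwd_one_tmul_D (x : R) :
    fwd (R := R) (R₁ := R₁) (L := L) ((1 : L) ⊗ₜ[R] D ℤ R x) =
      (1 : L) ⊗ₜ[R₁] D ℤ R₁ (algebraMap R R₁ x) := by
  simp [fwd]

variable (hsurj : Function.Surjective (algebraMap R R₁))
  (hker : ∀ x, algebraMap R R₁ x = 0 → (1 : L) ⊗ₜ[R] D ℤ R x = 0)

include hker in
theorem one_tmul_D_congr (x x' : R) (h : algebraMap R R₁ x = algebraMap R R₁ x') :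
    (1 : L) ⊗ₜ[R] D ℤ R x = (1 : L) ⊗ₜ[R] D ℤ R x' := by
  have h0 : algebraMap R R₁ (x - x') = 0 := by rw [map_sub, h, sub_self]
  have := hker _ h0
  rwa [map_sub, TensorProduct.tmul_sub, sub_eq_zero] at this

/-- the descended derivation `R₁ → L ⊗_R Ω_R` -/
noncomputable def descD : Derivation ℤ R₁ (L ⊗[R] Ω[R⁄ℤ]) :=
  Derivation.mk'
    (AddMonoidHom.toIntLinearMap (AddMonoidHom.mk' (fun y => (1 : L) ⊗ₜ[R] D ℤ R (Function.surjInv hsurj y))
      (fun y y' => by
        rw [← TensorProduct.tmul_add, ← map_add]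
        apply one_tmul_D_congr hker
        rw [map_add, Function.surjInv_eq hsurj, Function.surjInv_eq hsurj,
          Function.surjInv_eq hsurj])))
    (fun y y' => by
      change (1 : L) ⊗ₜ[R] D ℤ R (Function.surjInv hsurj (y * y')) =
        y • ((1 : L) ⊗ₜ[R] D ℤ R (Function.surjInv hsurj y')) +
          y' • ((1 : L) ⊗ₜ[R] D ℤ R (Function.surjInv hsurj y))
      have h1 : (1 : L) ⊗ₜ[R] D ℤ R (Function.surjInv hsurj (y * y')) =
          (1 : L) ⊗ₜ[R] D ℤ R (Function.surjInv hsurj y * Function.surjInv hsurj y') := by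
        apply one_tmul_D_congr hker
        rw [map_mul, Function.surjInv_eq hsurj, Function.surjInv_eq hsurj,
          Function.surjInv_eq hsurj]
      rw [h1, Derivation.leibniz, TensorProduct.tmul_add]
      have h2 : ∀ (z : R₁) (ω : Ω[R⁄ℤ]), z • ((1 : L) ⊗ₜ[R] ω) =
          (1 : L) ⊗ₜ[R] (Function.surjInv hsurj z • ω) := by
        intro z ω
        rw [TensorProduct.smul_tmul', ← TensorProduct.smul_tmul, Algebra.smul_def,
          Algebra.smul_def, mul_one, mul_one, IsScalarTower.algebraMap_apply R R₁ L,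
          Function.surjInv_eq hsurj]
      rw [h2, h2])

theorem descD_algebraMap (x : R) :
    descD hsurj hker (algebraMap R R₁ x) = (1 : L) ⊗ₜ[R] D ℤ R x := by
  change (1 : L) ⊗ₜ[R] D ℤ R (Function.surjInv hsurj (algebraMap R R₁ x)) = _
  apply one_tmul_D_congr hker
  rw [Function.surjInv_eq hsurj]

/-- the backward map `L ⊗_{R₁} Ω_{R₁} → L ⊗_R Ω_R` -/
noncomputable def bwd : L ⊗[R₁] Ω[R₁⁄ℤ] →ₗ[L] L ⊗[R] Ω[R⁄ℤ] :=
  LinearMap.liftBaseChange L (descD hsurj hker).liftKaehlerDifferential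

theorem bwd_one_tmul_D (x : R) :
    bwd hsurj hker ((1 : L) ⊗ₜ[R₁] D ℤ R₁ (algebraMap R R₁ x)) = (1 : L) ⊗ₜ[R] D ℤ R x := by
  rw [bwd, LinearMap.liftBaseChange_tmul, one_smul, Derivation.liftKaehlerDifferential_comp_D,
    descD_algebraMap]

include hsurj hker in
theorem linearIndependent_one_tmul_D_iff {ι : Type*} (f : ι → R) :
    LinearIndependent L (fun i => (1 : L) ⊗ₜ[R] D ℤ R (f i)) ↔
      LinearIndependent L (fun i => (1 : L) ⊗ₜ[R₁] D ℤ R₁ (algebraMap R R₁ (f i))) := by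
  constructor
  · intro h
    refine LinearIndependent.of_comp (bwd hsurj hker) ?_
    convert h using 1
    funext i
    exact bwd_one_tmul_D hsurj hker (f i)
  · intro h
    refine LinearIndependent.of_comp (fwd (R := R) (R₁ := R₁) (L := L)) ?_
    convert h using 1
    funext i
    exact fwd_one_tmul_D (f i)

end Quot

end Groth.Agent.Lib.Helper97.PPolyReg
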