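import Groth.Agent.Lib.Helper97.PPolyReg.Reduce
import Mathlib.RingTheory.LocalRing.RingHom.Basic
import Mathlib.RingTheory.Ideal.GoingUp

set_option autoImplicit false

/-! Locality of `B = A[T]/(F_i)` from locality of its reduction. -/

namespace Groth.Agent.Lib.Helper97.PPolyReg

open MvPolynomial IsLocalRing

universe u

theorem isLocalRing_of_surjective_of_ker_le {S S₁ : Type*} [CommRing S] [CommRing S₁]
    [IsLocalRing S₁] (φ : S →+* S₁) (hφ : Function.Surjective φ)
    (hker : ∀ M : Ideal S, M.IsMaximal → RingHom.ker φ ≤ M) : IsLocalRing S := by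
  apply IsLocalRing.of_unique_max_ideal
  have hmax : ((maximalIdeal S₁).comap φ).IsMaximal := Ideal.comap_isMaximal_of_surjective φ hφ
  refine ⟨(maximalIdeal S₁).comap φ, hmax, ?_⟩
  intro M hM
  have hk := hker M hM
  have hcm : (M.map φ).comap φ = M := by
    rw [Ideal.comap_map_of_surjective φ hφ, ← RingHom.ker_eq_comap_bot]
    exact sup_eq_left.mpr hk
  have hne : M.map φ ≠ ⊤ := by
    intro h
    rw [h, Ideal.comap_top] at hcm
    exact hM.ne_top hcm.symm
  have hle : M.map φ ≤ maximalIdeal S₁ := IsLocalRing.le_maximalIdeal hne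
  have hle' : M ≤ (maximalIdeal S₁).comap φ := by
    rw [← hcm]
    exact Ideal.comap_mono hle
  exact hM.eq_of_le hmax.ne_top hle'

variable {A : Type u} [CommRing A] [IsLocalRing A] (p : ℕ) {r : ℕ} (c : Fin r → Fin p → A)
  (f : Fin r → A) (I₀ : Ideal A) (hpI : (p : A) ∈ I₀)

theorem map_maximalIdeal_le_of_isMaximal (hp : 0 < p) (M : Ideal (B p c f)) (hM : M.IsMaximal) :
    (maximalIdeal A).map (algebraMap A (B p c f)) ≤ M := by
  have := isIntegral p c f hp
  have h1 : (M.comap (algebraMap A (B p c f))).IsMaximal :=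
    Ideal.isMaximal_comap_of_isIntegral_of_isMaximal M
  rw [Ideal.map_le_iff_le_comap, ← IsLocalRing.eq_maximalIdeal h1]

include hpI in
theorem isLocalRing_B [IsLocalRing (B₁ p f I₀)] (hp : 0 < p) (hI₀ : I₀ ≤ maximalIdeal A) :
    IsLocalRing (B p c f) := by
  refine isLocalRing_of_surjective_of_ker_le (S := B p c f) (S₁ := B₁ p f I₀)
    (φ p c f I₀ hpI) (φ_surjective p c f I₀ hpI) ?_
  intro M hM
  rw [ker_φ]
  exact (Ideal.map_mono hI₀).trans (map_maximalIdeal_le_of_isMaximal p c f hp M hM)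

theorem map_maximalIdeal_le [IsLocalRing (B p c f)] (hp : 0 < p) :
    (maximalIdeal A).map (algebraMap A (B p c f)) ≤ maximalIdeal (B p c f) :=
  map_maximalIdeal_le_of_isMaximal p c f hp _ (maximalIdeal.isMaximal _)

theorem ker_φ_le_sq [IsLocalRing (B p c f)] (hp : 0 < p)
    (hpI : (p : A) ∈ maximalIdeal A ^ 2) :
    RingHom.ker (φ p c f (maximalIdeal A ^ 2) hpI) ≤ maximalIdeal (B p c f) ^ 2 := by
  rw [ker_φ, Ideal.map_pow]
  exact Ideal.pow_right_mono (map_maximalIdeal_le p c f hp) 2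

end Groth.Agent.Lib.Helper97.PPolyReg
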