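import Mathlib.RingTheory.RegularLocalRing.Defs
import Mathlib.RingTheory.Nakayama
import Mathlib.RingTheory.LocalRing.RingHom.Basic

set_option autoImplicit false

/-! The embedding dimension of a Noetherian local ring does not change when passing to the quotient
by an ideal contained in the square of the maximal ideal. -/

namespace Groth.Agent.Lib.Helper97.PPolyReg

open IsLocalRing

universe u v

variable {S : Type u} {S₁ : Type v} [CommRing S] [CommRing S₁] [IsLocalRing S] [IsLocalRing S₁]
  [IsNoetherianRing S] [IsNoetherianRing S₁]

theorem spanFinrank_maximalIdeal_eq_of_surjective (φ : S →+* S₁) (hφ : Function.Surjective φ)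
    (hker : RingHom.ker φ ≤ maximalIdeal S ^ 2) :
    (maximalIdeal S).spanFinrank = (maximalIdeal S₁).spanFinrank := by
  classical
  have hmap : (maximalIdeal S).map φ = maximalIdeal S₁ := map_maximalIdeal_of_surjective φ hφ
  apply le_antisymm
  · -- lift generators
    obtain ⟨T, hTcard, hTspan⟩ := Submodule.FG.exists_span_finset_card_eq_spanFinrank
      (IsNoetherian.noetherian (maximalIdeal S₁))
    have hT : ∀ y ∈ T, ∃ x ∈ maximalIdeal S, φ x = y := by
      intro y hy
      have hy' : y ∈ (maximalIdeal S).map φ := by
        rw [hmap, ← hTspan]; exact Submodule.subset_span hy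
      exact (Ideal.mem_map_iff_of_surjective φ hφ).mp hy'
    choose! g hgm hgφ using hT
    let T' : Finset S := T.image g
    have hT'le : Ideal.span (T' : Set S) ≤ maximalIdeal S := by
      rw [Ideal.span_le]
      intro x hx
      obtain ⟨y, hy, rfl⟩ := Finset.mem_image.mp hx
      exact hgm y hy
    have hle : maximalIdeal S ≤ Ideal.span (T' : Set S) := by
      refine Submodule.le_of_le_smul_of_le_jacobson_bot (I := maximalIdeal S)
        (IsNoetherian.noetherian _) (maximalIdeal_le_jacobson _) ?_
      intro x hx
      have hx' : φ x ∈ Ideal.span ((T : Set S₁)) := by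
        change φ x ∈ Submodule.span S₁ (T : Set S₁)
        rw [hTspan, ← hmap]; exact Ideal.mem_map_of_mem _ hx
      have himg : (T : Set S₁) = φ '' (T' : Set S) := by
        ext y
        simp only [Finset.mem_coe, Set.mem_image, T', Finset.mem_image]
        constructor
        · intro hy; exact ⟨g y, ⟨y, hy, rfl⟩, hgφ y hy⟩
        · rintro ⟨x, ⟨z, hz, rfl⟩, rfl⟩; rw [hgφ z hz]; exact hz
      rw [himg, ← Ideal.map_span] at hx'
      obtain ⟨t, ht, htx⟩ := (Ideal.mem_map_iff_of_surjective φ hφ).mp hx'
      have hk : x - t ∈ RingHom.ker φ := by rw [RingHom.mem_ker, map_sub, htx, sub_self]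
      have hk2 : x - t ∈ maximalIdeal S • (maximalIdeal S : Submodule S S) := by
        have := hker hk
        rwa [pow_two] at this
      have : x = t + (x - t) := by ring
      rw [this]
      exact Submodule.add_mem_sup ht hk2
    have heq : maximalIdeal S = Ideal.span (T' : Set S) := le_antisymm hle hT'le
    calc (maximalIdeal S).spanFinrank = (Submodule.span S (T' : Set S)).spanFinrank := by
          conv_lhs => rw [heq]
      _ ≤ (T' : Set S).ncard := Submodule.spanFinrank_span_le_ncard_of_finite (Finset.finite_toSet _)
      _ = T'.card := Set.ncard_coe_finset _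
      _ ≤ T.card := Finset.card_image_le
      _ = (maximalIdeal S₁).spanFinrank := hTcard
  · rw [← hmap]
    exact Ideal.spanFinrank_map_le_of_fg φ (IsNoetherian.noetherian (maximalIdeal S))

theorem finrank_cotangentSpace_eq_of_surjective (φ : S →+* S₁) (hφ : Function.Surjective φ)
    (hker : RingHom.ker φ ≤ maximalIdeal S ^ 2) :
    Module.finrank (ResidueField S) (CotangentSpace S) =
      Module.finrank (ResidueField S₁) (CotangentSpace S₁) := by
  rw [← spanFinrank_maximalIdeal_eq_finrank_cotangentSpace,
    ← spanFinrank_maximalIdeal_eq_finrank_cotangentSpace]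
  exact spanFinrank_maximalIdeal_eq_of_surjective φ hφ hker

end Groth.Agent.Lib.Helper97.PPolyReg
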