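import Groth.Agent.Lib.Helper97.PPolyReg.Local
import Groth.Agent.Lib.Helper97.PPolyReg.QuotCot
import Groth.Agent.Lib.Helper97.PPolyReg.KaehlerQuot
import Groth.Agent.Lib.Helper77.RegularLocalization
import Groth.Agent.Lib.Helper73.DimFT.Basic
import Groth.Agent.Lib.Helper76.RegularLocal
import Groth.Agent.S4595
import Mathlib.RingTheory.HopkinsLevitzki

set_option autoImplicit false

/-! EGA 0_IV 22.5.?: regularity of `A[T]/(T_i^p + p(...) - f_i)` over a regular local ring `A`
with `p ∈ m²`. -/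

namespace Groth.Agent.Lib.Helper97.PPolyReg

open MvPolynomial IsLocalRing TensorProduct

universe u

section Quot

variable (A : Type u) [CommRing A] [IsLocalRing A]

theorem sq_ne_top : maximalIdeal A ^ 2 ≠ ⊤ := fun h =>
  (maximalIdeal.isMaximal A).ne_top (top_le_iff.mp (h ▸ Ideal.pow_le_self two_ne_zero))

instance : Nontrivial (A ⧸ maximalIdeal A ^ 2) := Ideal.Quotient.nontrivial_iff.mpr (sq_ne_top A)

instance : IsLocalRing (A ⧸ maximalIdeal A ^ 2) :=
  IsLocalRing.of_surjective' (Ideal.Quotient.mk _) Ideal.Quotient.mk_surjective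

theorem maximalIdeal_quot_sq : maximalIdeal (A ⧸ maximalIdeal A ^ 2) ^ 2 = ⊥ := by
  rw [← map_maximalIdeal_of_surjective (Ideal.Quotient.mk (maximalIdeal A ^ 2))
    Ideal.Quotient.mk_surjective, ← Ideal.map_pow, Ideal.map_quotient_self]

instance [IsNoetherianRing A] : IsArtinianRing (A ⧸ maximalIdeal A ^ 2) := by
  rw [isArtinianRing_iff_isNilpotent_maximalIdeal]
  exact ⟨2, maximalIdeal_quot_sq A⟩

theorem charP_quot_sq (p : ℕ) [Fact p.Prime] (hp : (p : A) ∈ maximalIdeal A ^ 2) :
    CharP (A ⧸ maximalIdeal A ^ 2) p := by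
  have h0 : ((p : ℕ) : A ⧸ maximalIdeal A ^ 2) = 0 := by
    rw [← map_natCast (Ideal.Quotient.mk (maximalIdeal A ^ 2))]
    exact Ideal.Quotient.eq_zero_iff_mem.mpr hp
  obtain ⟨q, hq⟩ := CharP.exists (A ⧸ maximalIdeal A ^ 2)
  have hdvd : q ∣ p := (CharP.cast_eq_zero_iff (A ⧸ maximalIdeal A ^ 2) q p).mp h0
  rcases (Nat.dvd_prime (Fact.out : p.Prime)).mp hdvd with h1 | h1
  · exact absurd h1 (CharP.char_ne_one (A ⧸ maximalIdeal A ^ 2) q)
  · exact h1 ▸ hq

instance : IsLocalHom (algebraMap A (A ⧸ maximalIdeal A ^ 2)) :=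
  IsLocalHom.of_surjective _ Ideal.Quotient.mk_surjective

/-- the residue fields of `A` and `A/m²` agree -/
noncomputable def residueEquivQuotSq :
    ResidueField A ≃ₐ[A] ResidueField (A ⧸ maximalIdeal A ^ 2) :=
  AlgEquiv.ofBijective
    (IsScalarTower.toAlgHom A (ResidueField A) (ResidueField (A ⧸ maximalIdeal A ^ 2)))
    ⟨(algebraMap (ResidueField A) (ResidueField (A ⧸ maximalIdeal A ^ 2))).injective, fun y => by
      obtain ⟨y, rfl⟩ := residue_surjective y
      obtain ⟨a, rfl⟩ := Ideal.Quotient.mk_surjective y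
      exact ⟨residue A a, rfl⟩⟩

theorem linearIndependent_iff_quot_sq {ι : Type*} (f : ι → A) :
    LinearIndependent (ResidueField A)
        (fun i => (1 : ResidueField A) ⊗ₜ[A] KaehlerDifferential.D ℤ A (f i)) ↔
      LinearIndependent (ResidueField (A ⧸ maximalIdeal A ^ 2))
        (fun i => (1 : ResidueField (A ⧸ maximalIdeal A ^ 2)) ⊗ₜ[A ⧸ maximalIdeal A ^ 2]
          KaehlerDifferential.D ℤ (A ⧸ maximalIdeal A ^ 2)
            (Ideal.Quotient.mk (maximalIdeal A ^ 2) (f i))) := by
  rw [linearIndependent_one_tmul_iff_of_algEquiv (residueEquivQuotSq A)]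
  refine linearIndependent_one_tmul_D_iff (R := A) (R₁ := A ⧸ maximalIdeal A ^ 2)
    (L := ResidueField (A ⧸ maximalIdeal A ^ 2)) Ideal.Quotient.mk_surjective ?_ f
  intro x hx
  refine one_tmul_D_eq_zero_of_mem_sq (maximalIdeal A) ?_ x (Ideal.Quotient.eq_zero_iff_mem.mp hx)
  intro a ha
  rw [IsScalarTower.algebraMap_apply A (A ⧸ maximalIdeal A ^ 2)
    (ResidueField (A ⧸ maximalIdeal A ^ 2)), ResidueField.algebraMap_eq, residue_eq_zero_iff,
    ← map_maximalIdeal_of_surjective (algebraMap A (A ⧸ maximalIdeal A ^ 2))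
      Ideal.Quotient.mk_surjective]
  exact Ideal.mem_map_of_mem _ ha

end Quot


section Main

variable {A : Type u} [CommRing A] [IsRegularLocalRing A] (p : ℕ) [Fact p.Prime]
  {r : ℕ} (c : Fin r → Fin p → A) (f : Fin r → A)

theorem main (hp : (p : A) ∈ maximalIdeal A ^ 2) :
    IsLocalRing (B p c f) ∧
      (IsRegularRing (B p c f) ↔
        LinearIndependent (ResidueField A)
          (fun i => (1 : ResidueField A) ⊗ₜ[A] KaehlerDifferential.D ℤ A (f i))) := by
  have hp0 : 0 < p := (Fact.out : p.Prime).pos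
  haveI : CharP (A ⧸ maximalIdeal A ^ 2) p := charP_quot_sq A p hp
  obtain ⟨hloc₁, hiff⟩ := Groth.Agent.S4595.result (A := A ⧸ maximalIdeal A ^ 2)
    (maximalIdeal_quot_sq A) p (fun i => Ideal.Quotient.mk (maximalIdeal A ^ 2) (f i))
  haveI : IsLocalRing (B₁ p f (maximalIdeal A ^ 2)) := hloc₁
  haveI hlocB : IsLocalRing (B p c f) :=
    isLocalRing_B p c f (maximalIdeal A ^ 2) hp hp0 (Ideal.pow_le_self two_ne_zero)
  refine ⟨hlocB, ?_⟩
  -- cotangent space dimensions
  have hcotB : Module.finrank (ResidueField (B p c f)) (CotangentSpace (B p c f)) =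
      Module.finrank (ResidueField (B₁ p f (maximalIdeal A ^ 2)))
        (CotangentSpace (B₁ p f (maximalIdeal A ^ 2))) :=
    finrank_cotangentSpace_eq_of_surjective (φ p c f (maximalIdeal A ^ 2) hp)
      (φ_surjective p c f (maximalIdeal A ^ 2) hp) (ker_φ_le_sq p c f hp0 hp)
  have hcotA : Module.finrank (ResidueField A) (CotangentSpace A) =
      Module.finrank (ResidueField (A ⧸ maximalIdeal A ^ 2))
        (CotangentSpace (A ⧸ maximalIdeal A ^ 2)) :=
    finrank_cotangentSpace_eq_of_surjective (Ideal.Quotient.mk (maximalIdeal A ^ 2))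
      Ideal.Quotient.mk_surjective (by rw [Ideal.mk_ker])
  -- dimension
  haveI : IsDomain A := Groth.Agent.Lib.Helper76.isDomain_of_isRegularLocalRing A
  haveI : Algebra.IsIntegral A (B p c f) := isIntegral p c f hp0
  have hdim : ringKrullDim (B p c f) = ringKrullDim A :=
    Groth.Agent.Lib.Helper73.ringKrullDim_eq_of_isIntegral_of_injective
      (algebraMap_injective p c f hp0)
  have hregA : (Module.finrank (ResidueField A) (CotangentSpace A) : WithBot ℕ∞) =
      ringKrullDim A := (IsRegularLocalRing.iff_finrank_cotangentSpace A).mp inferInstance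
  -- regular ring vs regular local ring
  have h1 : IsRegularRing (B p c f) ↔ IsRegularLocalRing (B p c f) :=
    ⟨fun h => IsRegularLocalRing.of_isRegularRing_of_isLocalRing (B p c f),
      fun h => Groth.Agent.Lib.Helper77.RegularLocalization.isRegularRing_of_isRegularLocalRing _⟩
  rw [h1, IsRegularLocalRing.iff_finrank_cotangentSpace, hdim, ← hregA, Nat.cast_inj, hcotB, hcotA,
    linearIndependent_iff_quot_sq, eq_comm]
  exact hiff

end Main

end Groth.Agent.Lib.Helper97.PPolyReg
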