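import Mathlib.RingTheory.MvPolynomial.Basic
import Mathlib.RingTheory.LocalRing.ResidueField.Basic
import Mathlib.FieldTheory.IsAlgClosed.AlgebraicClosure
import Mathlib.RingTheory.IntegralClosure.IsIntegralClosure.Basic
import Mathlib.RingTheory.Polynomial.Quotient
import Mathlib.RingTheory.Localization.FractionRing
import Mathlib.RingTheory.Ideal.GoingUp

set_option autoImplicit false

/-! The ring `B = A[T₁,…,T_r]/(F_i)`, `F_i = T_i^p + p Σ_j c_{ij} T_i^{p-j} - f_i`. -/

namespace Groth.Agent.Lib.Helper97.PPolyReg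

open MvPolynomial IsLocalRing

universe u

variable {A : Type u} [CommRing A] (p : ℕ) {r : ℕ} (c : Fin r → Fin p → A) (f : Fin r → A)

/-- the lower order part of the univariate polynomial -/
noncomputable def gLow (i : Fin r) : Polynomial A :=
  (p : Polynomial A) * (Finset.univ.sum fun j : Fin p =>
    if (j : ℕ) = 0 then 0 else Polynomial.C (c i j) * Polynomial.X ^ (p - (j : ℕ))) -
      Polynomial.C (f i)

/-- the univariate polynomial `g_i` with `F_i = g_i(T_i)` -/
noncomputable def g (i : Fin r) : Polynomial A := Polynomial.X ^ p + gLow p c f i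

/-- the polynomials `F_i` -/
noncomputable def F (i : Fin r) : MvPolynomial (Fin r) A :=
  X i ^ p + (p : MvPolynomial (Fin r) A) * (Finset.univ.sum fun j : Fin p =>
    if (j : ℕ) = 0 then 0 else C (c i j) * X i ^ (p - (j : ℕ))) - C (f i)

/-- the quotient ring -/
abbrev B : Type u := MvPolynomial (Fin r) A ⧸ Ideal.span (Set.range (F p c f))

lemma F_mem (i : Fin r) : F p c f i ∈ Ideal.span (Set.range (F p c f)) :=
  Ideal.subset_span ⟨i, rfl⟩

lemma gLow_degree_lt (hp : 0 < p) (i : Fin r) : (gLow p c f i).degree < p := by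
  rw [← Polynomial.mem_degreeLT]
  unfold gLow
  refine Submodule.sub_mem _ ?_ ?_
  · rw [← nsmul_eq_mul]
    refine Submodule.smul_of_tower_mem _ _ ?_
    refine Submodule.sum_mem _ fun j _ => ?_
    split_ifs with hj
    · exact Submodule.zero_mem _
    · rw [Polynomial.C_mul']
      refine Submodule.smul_mem _ _ ?_
      rw [Polynomial.mem_degreeLT]
      refine lt_of_le_of_lt (Polynomial.degree_X_pow_le _) ?_
      exact_mod_cast Nat.sub_lt hp (Nat.pos_of_ne_zero hj)
  · rw [Polynomial.mem_degreeLT]
    exact lt_of_le_of_lt Polynomial.degree_C_le (by exact_mod_cast hp)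

lemma g_monic (hp : 0 < p) (i : Fin r) : (g p c f i).Monic :=
  Polynomial.monic_X_pow_add (gLow_degree_lt p c f hp i)

lemma g_degree_ne_zero [Nontrivial A] (hp : 0 < p) (i : Fin r) : (g p c f i).degree ≠ 0 := by
  have h : (g p c f i).degree = p := by
    unfold g
    rw [Polynomial.degree_add_eq_left_of_degree_lt, Polynomial.degree_X_pow]
    rw [Polynomial.degree_X_pow]
    exact gLow_degree_lt p c f hp i
  rw [h]
  exact_mod_cast hp.ne'

lemma aeval_g {Z : Type*} [CommRing Z] [Algebra A Z] (z : Z) (i : Fin r) :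
    Polynomial.aeval z (g p c f i) =
      z ^ p + (p : Z) * (Finset.univ.sum fun j : Fin p =>
        if (j : ℕ) = 0 then 0 else algebraMap A Z (c i j) * z ^ (p - (j : ℕ))) -
          algebraMap A Z (f i) := by
  unfold g gLow
  simp only [map_add, map_sub, map_mul, map_pow, map_natCast, map_sum, Polynomial.aeval_X,
    Polynomial.aeval_C, add_sub_assoc]
  congr 3
  refine Finset.sum_congr rfl fun j _ => ?_
  split_ifs <;> simp

lemma algHom_F {Z : Type*} [CommRing Z] [Algebra A Z] (ψ : MvPolynomial (Fin r) A →ₐ[A] Z)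
    (i : Fin r) : ψ (F p c f i) = Polynomial.aeval (ψ (X i)) (g p c f i) := by
  rw [aeval_g]
  unfold F
  simp only [map_add, map_sub, map_mul, map_pow, map_natCast, map_sum]
  congr 1
  · congr 2
    refine Finset.sum_congr rfl fun j _ => ?_
    split_ifs
    · simp
    · rw [map_mul, map_pow, ← MvPolynomial.algebraMap_eq, AlgHom.commutes]
  · rw [← MvPolynomial.algebraMap_eq, AlgHom.commutes]

lemma isIntegral_mk_X (hp : 0 < p) (i : Fin r) :
    IsIntegral A (Ideal.Quotient.mk (Ideal.span (Set.range (F p c f))) (X i)) := by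
  refine ⟨g p c f i, g_monic p c f hp i, ?_⟩
  rw [← Polynomial.aeval_def]
  have := algHom_F p c f (Ideal.Quotient.mkₐ A (Ideal.span (Set.range (F p c f)))) i
  rw [Ideal.Quotient.mkₐ_eq_mk] at this
  rw [← this]
  exact Ideal.Quotient.eq_zero_iff_mem.mpr (F_mem p c f i)

theorem isIntegral (hp : 0 < p) : Algebra.IsIntegral A (B p c f) := by
  constructor
  intro x
  obtain ⟨q, rfl⟩ := Ideal.Quotient.mk_surjective x
  induction q using MvPolynomial.induction_on with
  | C a => exact isIntegral_algebraMap (R := A) (A := B p c f) (x := a)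
  | add q₁ q₂ h₁ h₂ => rw [map_add]; exact h₁.add h₂
  | mul_X q i h => rw [map_mul]; exact h.mul (isIntegral_mk_X p c f hp i)

theorem algebraMap_injective [IsDomain A] (hp : 0 < p) :
    Function.Injective (algebraMap A (B p c f)) := by
  let Lc := AlgebraicClosure (FractionRing A)
  have hinj : Function.Injective (algebraMap A Lc) := by
    rw [IsScalarTower.algebraMap_eq A (FractionRing A) Lc]
    exact (algebraMap (FractionRing A) Lc).injective.comp (IsFractionRing.injective A _)
  have hroot : ∀ i, ∃ x : Lc, Polynomial.aeval x (g p c f i) = 0 := fun i =>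
    IsAlgClosed.exists_aeval_eq_zero_of_injective Lc hinj _ (g_degree_ne_zero p c f hp i)
  choose α hα using hroot
  let ψ : MvPolynomial (Fin r) A →ₐ[A] Lc := MvPolynomial.aeval α
  have hψ : ∀ a ∈ Ideal.span (Set.range (F p c f)), ψ a = 0 := by
    intro a ha
    refine Submodule.span_induction ?_ ?_ ?_ ?_ ha
    · rintro _ ⟨i, rfl⟩
      rw [algHom_F]
      simp only [ψ, MvPolynomial.aeval_X]
      exact hα i
    · exact map_zero _
    · intro x y _ _ hx hy
      rw [map_add, hx, hy, add_zero]
    · intro a x _ hx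
      rw [smul_eq_mul, map_mul, hx, mul_zero]
  let ψ' : B p c f →ₐ[A] Lc := Ideal.Quotient.liftₐ _ ψ hψ
  intro a b hab
  apply hinj
  rw [← ψ'.commutes a, ← ψ'.commutes b, hab]

end Groth.Agent.Lib.Helper97.PPolyReg
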