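import Groth.Agent.Lib.Helper97.PPolyReg.PPolyB
import Mathlib.RingTheory.Ideal.Quotient.Operations

set_option autoImplicit false

/-! Reduction of `B = A[T]/(F_i)` modulo an ideal `I₀` of `A` containing `p`:
`B → (A/I₀)[T]/(T_i^p - f_i)` is surjective with kernel `I₀ B`. -/

namespace Groth.Agent.Lib.Helper97.PPolyReg

open MvPolynomial IsLocalRing

universe u

variable {A : Type u} [CommRing A] (p : ℕ) {r : ℕ} (c : Fin r → Fin p → A) (f : Fin r → A)
  (I₀ : Ideal A)

/-- the target of the reduction map -/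
abbrev B₁ : Type u := MvPolynomial (Fin r) (A ⧸ I₀) ⧸
  Ideal.span (Set.range fun i : Fin r => (X i ^ p - C (Ideal.Quotient.mk I₀ (f i)) :
    MvPolynomial (Fin r) (A ⧸ I₀)))

variable (hpI : (p : A) ∈ I₀)

include hpI in
lemma map_F (i : Fin r) : MvPolynomial.map (Ideal.Quotient.mk I₀) (F p c f i) =
    X i ^ p - C (Ideal.Quotient.mk I₀ (f i)) := by
  have hp0 : (p : MvPolynomial (Fin r) (A ⧸ I₀)) = 0 := by
    rw [← map_natCast (C : (A ⧸ I₀) →+* MvPolynomial (Fin r) (A ⧸ I₀)),
      ← map_natCast (Ideal.Quotient.mk I₀), Ideal.Quotient.eq_zero_iff_mem.mpr hpI, map_zero]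
  unfold F
  rw [map_sub, map_add, map_mul, map_natCast, hp0, zero_mul, add_zero, map_pow, map_X, map_C]

/-- the map `A[T] → B₁` -/
noncomputable def Φ : MvPolynomial (Fin r) A →+* B₁ p f I₀ :=
  (Ideal.Quotient.mk _).comp (MvPolynomial.map (Ideal.Quotient.mk I₀))

lemma Φ_surjective : Function.Surjective (Φ p f I₀) :=
  Ideal.Quotient.mk_surjective.comp (MvPolynomial.map_surjective _ Ideal.Quotient.mk_surjective)

include hpI in
lemma ker_Φ : RingHom.ker (Φ p f I₀) = Ideal.span (Set.range (F p c f)) ⊔ I₀.map C := by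
  have hsurj : Function.Surjective (MvPolynomial.map (σ := Fin r) (Ideal.Quotient.mk I₀)) :=
    MvPolynomial.map_surjective _ Ideal.Quotient.mk_surjective
  have himg : Ideal.span (Set.range fun i : Fin r => (X i ^ p - C (Ideal.Quotient.mk I₀ (f i)) :
      MvPolynomial (Fin r) (A ⧸ I₀))) =
      (Ideal.span (Set.range (F p c f))).map (MvPolynomial.map (Ideal.Quotient.mk I₀)) := by
    rw [Ideal.map_span, ← Set.range_comp]
    congr 2
    funext i
    exact (map_F p c f I₀ hpI i).symm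
  unfold Φ
  rw [← RingHom.comap_ker, Ideal.mk_ker, himg, Ideal.comap_map_of_surjective _ hsurj,
    ← RingHom.ker_eq_comap_bot, MvPolynomial.ker_map, Ideal.mk_ker]

include hpI in
lemma Φ_F (a : MvPolynomial (Fin r) A) (ha : a ∈ Ideal.span (Set.range (F p c f))) :
    Φ p f I₀ a = 0 := by
  rw [← RingHom.mem_ker, ker_Φ p c f I₀ hpI]
  exact Ideal.mem_sup_left ha

/-- the reduction map `B → B₁` -/
noncomputable def φ : B p c f →+* B₁ p f I₀ :=
  Ideal.Quotient.lift _ (Φ p f I₀) (Φ_F p c f I₀ hpI)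

lemma φ_surjective : Function.Surjective (φ p c f I₀ hpI) :=
  Ideal.Quotient.lift_surjective_of_surjective _ _ (Φ_surjective p f I₀)

lemma ker_φ : RingHom.ker (φ p c f I₀ hpI) = I₀.map (algebraMap A (B p c f)) := by
  unfold φ
  rw [Ideal.ker_quotient_lift, ker_Φ p c f I₀ hpI, Ideal.map_sup, Ideal.map_quotient_self,
    bot_sup_eq, Ideal.map_map]
  rfl

end Groth.Agent.Lib.Helper97.PPolyReg
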